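import Groth.Agent.CohenLib.PSHom
import Groth.Agent.HopfTruncLib.Basic
import Mathlib.LinearAlgebra.TensorProduct.Quotient
import Mathlib.RingTheory.LocalRing.ResidueField.Basic
import Mathlib.RingTheory.OrzechProperty
import Mathlib.RingTheory.Nakayama

/-!
Lifting a truncated presentation from the closed fibre.
-/

set_option autoImplicit false

noncomputable section

universe u v

open TensorProduct

namespace ConnPresLib

variable (R : Type u) [CommRing R] [IsNoetherianRing R] [IsLocalRing R]
  [IsAdicComplete (IsLocalRing.maximalIdeal R) R]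

/-- The presentation. -/
theorem exists_presentation (A : Type v) [CommRing A] [Algebra R A] [Module.Finite R A] [Module.Free R A]
    [IsLocalRing A] {r : ℕ} (q : Fin r → ℕ) (hq : ∀ i, 0 < q i) (hrank : Module.finrank R A = ∏ i, q i)
    (φ0 : MvPolynomial (Fin r) (IsLocalRing.ResidueField R) →ₐ[IsLocalRing.ResidueField R]
      IsLocalRing.ResidueField R ⊗[R] A) (hφ0 : Function.Surjective φ0) (hkill : ∀ i, φ0 (MvPolynomial.X i) ^ q i = 0) :
    ∃ g : Fin r → MvPolynomial (Fin r) R,
      (∀ i, (∀ d, (g i).coeff d ∈ IsLocalRing.maximalIdeal R) ∧ (g i).degreeOf i < q i) ∧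
      Nonempty (A ≃ₐ[R] (MvPowerSeries (Fin r) R ⧸
        Ideal.span (Set.range fun i => (MvPowerSeries.X i : MvPowerSeries (Fin r) R) ^ q i + ↑(g i)))) := by
  classical
  let m := IsLocalRing.maximalIdeal R
  let ι := (i : Fin r) → Fin (q i)
  let dd : ι → (Fin r →₀ ℕ) := fun c => Finsupp.equivFunOnFinite.symm fun i => (c i : ℕ)
  let red : A →ₐ[R] IsLocalRing.ResidueField R ⊗[R] A := Algebra.TensorProduct.includeRight
  have hker : ∀ x, red x = 0 → x ∈ (m • ⊤ : Submodule R A) := fun x hx => by
    have h := (congrArg (TensorProduct.quotTensorEquivQuotSMul A m) hx).trans (LinearEquiv.map_zero _)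
    have h1 : TensorProduct.quotTensorEquivQuotSMul A m (red x) = Submodule.Quotient.mk x :=
      TensorProduct.quotTensorEquivQuotSMul_mk_tmul m 1 x |>.trans (by rw [one_smul])
    exact (Submodule.Quotient.mk_eq_zero _).1 (h1.symm.trans h)
  have hred : Function.Surjective red := fun z => by
    induction z using TensorProduct.induction_on with
    | zero => exact ⟨0, map_zero red⟩
    | add s t hs ht =>
      obtain ⟨x, rfl⟩ := hs; obtain ⟨y, rfl⟩ := ht
      exact ⟨x + y, map_add red x y⟩
    | tmul c x =>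
      obtain ⟨c', rfl⟩ := IsLocalRing.residue_surjective c
      refine ⟨c' • x, ?_⟩
      show (1 : IsLocalRing.ResidueField R) ⊗ₜ[R] (c' • x) = _
      rw [TensorProduct.tmul_smul, TensorProduct.smul_tmul', Algebra.smul_def, mul_one]
      rfl
  choose a ha using fun i => hred (φ0 (MvPolynomial.X i))
  let φ : MvPolynomial (Fin r) R →ₐ[R] A := MvPolynomial.aeval a
  let b : ι → A := fun c => φ (MvPolynomial.monomial (dd c) 1)
  have hφφ0 : ∀ d : Fin r →₀ ℕ, red (φ (MvPolynomial.monomial d 1)) = φ0 (MvPolynomial.monomial d 1) := fun d => by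
    have h0 : φ0 = MvPolynomial.aeval fun i => φ0 (MvPolynomial.X i) := MvPolynomial.algHom_ext fun i => by simp
    rw [h0]
    simp [φ, MvPolynomial.aeval_monomial, Finsupp.prod, map_prod, ha, ← Algebra.TensorProduct.one_def]
  have hgen : Submodule.span R (Set.range b) = ⊤ := by
    refine eq_top_iff.2 (Submodule.le_of_le_smul_of_le_jacobson_bot Module.Finite.fg_top
      (IsLocalRing.maximalIdeal_le_jacobson ⊥) fun x _ => ?_)
    have key : ∀ P, ∃ y ∈ Submodule.span R (Set.range b), red y = φ0 P := fun P => by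
      induction P using MvPolynomial.induction_on' with
      | monomial d c =>
        obtain ⟨c', rfl⟩ := IsLocalRing.residue_surjective c
        by_cases hd : ∀ i, d i < q i
        · refine ⟨c' • φ (MvPolynomial.monomial d 1), Submodule.smul_mem _ _ (Submodule.subset_span
            ⟨fun i => ⟨d i, hd i⟩, by
              show φ (MvPolynomial.monomial (dd _) 1) = _
              congr
              ext i; rfl⟩), ?_⟩
          rw [map_smul, hφφ0, ← algebraMap_smul (IsLocalRing.ResidueField R) c', ← map_smul,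
            MvPolynomial.smul_monomial, smul_eq_mul, mul_one]
          rfl
        · push Not at hd
          obtain ⟨i, hi⟩ := hd
          refine ⟨0, zero_mem _, ?_⟩
          have e : MvPolynomial.monomial d (IsLocalRing.residue R c') =
              MvPolynomial.X i ^ q i * MvPolynomial.monomial (d - Finsupp.single i (q i)) (IsLocalRing.residue R c') := by
            rw [MvPolynomial.X_pow_eq_monomial, MvPolynomial.monomial_mul, one_mul,
              add_tsub_cancel_of_le (Finsupp.single_le_iff.2 hi)]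
          rw [map_zero, e, map_mul, map_pow, hkill, zero_mul]
      | add P Q hP hQ =>
        obtain ⟨y, hy, hy'⟩ := hP; obtain ⟨z, hz, hz'⟩ := hQ
        exact ⟨y + z, add_mem hy hz, by rw [map_add, hy', hz', map_add]⟩
    obtain ⟨P, hP⟩ := hφ0 (red x)
    obtain ⟨y, hy, hy'⟩ := key P
    rw [show x = y + (x - y) from (add_sub_cancel _ _).symm]
    exact Submodule.add_mem_sup hy (hker _ (by rw [map_sub, hy', hP, sub_self]))
  have hpow : ∀ i, ∃ c : ι → R, (∀ j, c j ∈ m) ∧ ∑ j, c j • b j = a i ^ q i := fun i =>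
    (CompleteLib.mem_smul_span_iff_exists m b (a i ^ q i)).1 (by
      rw [hgen]; exact hker _ (by rw [map_pow, ha, hkill]))
  choose c hc hcs using hpow
  let g : Fin r → MvPolynomial (Fin r) R := fun i => -∑ j, MvPolynomial.monomial (dd j) (c i j)
  have hgc : ∀ i d, (g i).coeff d ∈ m := fun i d => by
    simp only [g, MvPolynomial.coeff_neg, MvPolynomial.coeff_sum, MvPolynomial.coeff_monomial]
    refine neg_mem (sum_mem fun j _ => ?_)
    split_ifs
    · exact hc i j
    · exact zero_mem _
  have hgd : ∀ i, (g i).degreeOf i < q i := fun i => by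
    rw [MvPolynomial.degreeOf_lt_iff (hq i)]
    intro d hd
    rw [MvPolynomial.mem_support_iff] at hd
    simp only [g, MvPolynomial.coeff_neg, MvPolynomial.coeff_sum, MvPolynomial.coeff_monomial, ne_eq, neg_eq_zero] at hd
    obtain ⟨j, -, hj⟩ := Finset.exists_ne_zero_of_sum_ne_zero hd
    obtain rfl : dd j = d := by by_contra h; exact hj (if_neg h)
    exact (j i).2
  refine ⟨g, fun i => ⟨hgc i, hgd i⟩, ?_⟩
  have hφg : ∀ i, a i ^ q i + φ (g i) = 0 := fun i => by
    have e : φ (∑ j, MvPolynomial.monomial (dd j) (c i j)) = ∑ j, c i j • b j := by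
      rw [map_sum]
      refine Finset.sum_congr rfl fun j _ => ?_
      show _ = c i j • φ (MvPolynomial.monomial (dd j) 1)
      rw [← map_smul, MvPolynomial.smul_monomial, smul_eq_mul, mul_one]
    show _ + φ (-∑ j, MvPolynomial.monomial (dd j) (c i j)) = 0
    rw [map_neg, e, hcs, add_neg_cancel]
  -- completeness of the target
  haveI : IsNoetherianRing A := IsNoetherianRing.of_finite R A
  let J := IsLocalRing.maximalIdeal A
  let mA := m.map (algebraMap R A)
  haveI : IsAdicComplete m A := CompleteLib.isAdicComplete_of_finite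
  haveI hmA : IsAdicComplete mA A := (IsAdicComplete.map_algebraMap_iff (I := m) (S := A) (M := A)).2 inferInstance
  have hrad : J ≤ mA.radical := by
    rw [Ideal.radical_eq_sInf]
    refine le_sInf fun P hP => ?_
    haveI := hP.2
    have h1 : m ≤ P.comap (algebraMap R A) := Ideal.map_le_iff_le_comap.1 hP.1
    have h2 : P.comap (algebraMap R A) = m :=
      ((IsLocalRing.maximalIdeal.isMaximal R).eq_of_le (Ideal.IsPrime.ne_top inferInstance) h1).symm
    haveI : P.IsMaximal := Ideal.isMaximal_of_isIntegral_of_isMaximal_comap P (by rw [h2]; exact IsLocalRing.maximalIdeal.isMaximal R)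
    exact (IsLocalRing.eq_maximalIdeal this).ge
  haveI : IsAdicComplete J A := by
    obtain ⟨N, hN⟩ := Ideal.exists_pow_le_of_le_radical_of_fg hrad (IsNoetherian.noetherian J)
    haveI : IsAdicComplete (J.map (Ideal.Quotient.mk mA)) (A ⧸ mA) :=
      CohenLib.isAdicComplete_of_isNilpotent _ ⟨N, by
        rw [← Ideal.map_pow]
        exact (Ideal.map_eq_bot_iff_le_ker _).2 (by rwa [Ideal.mk_ker])⟩
    exact CompleteLib.isAdicComplete_of_quotient mA J
  have haJ : ∀ i, a i ∈ J := fun i => by
    rw [IsLocalRing.mem_maximalIdeal]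
    intro hu
    haveI : Nontrivial (IsLocalRing.ResidueField R ⊗[R] A) := Module.nontrivial_of_finrank_pos
      (R := IsLocalRing.ResidueField R) (by
        rw [Module.finrank_baseChange, hrank]; exact Finset.prod_pos fun i _ => hq i)
    exact not_isUnit_zero (hkill i ▸ ((ha i ▸ hu.map red).pow (q i)))
  -- the power series ring
  let P := MvPowerSeries (Fin r) R
  haveI := CohenLib.isNoetherianRing_mvPowerSeries (n := r) R
  let f : Fin r → P := fun i => (MvPowerSeries.X i : P) ^ q i + ↑(g i)
  let I := Ideal.span (Set.range f)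
  have hC : ∀ x : R, algebraMap R P x = MvPowerSeries.C x := fun x => rfl
  have hcoe : ∀ p : MvPolynomial (Fin r) R, algebraMap (MvPolynomial (Fin r) R) P p = ↑p := fun p => by
    rw [MvPowerSeries.algebraMap_apply']; simp
  let ψ0 := CohenLib.psHom J (algebraMap R A) a haJ
  have hcomm : ∀ x : R, ψ0 (algebraMap R P x) = algebraMap R A x := fun x => by
    rw [hC]; exact CohenLib.psHom_C J (algebraMap R A) a haJ x
  let Ψ : P →ₐ[R] A := { ψ0 with commutes' := hcomm }
  have hΨ : ∀ p : MvPolynomial (Fin r) R, Ψ ↑p = φ p := fun p => by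
    rw [← hcoe]; exact CohenLib.psHom_coe J (algebraMap R A) a haJ p
  have hΨX : ∀ i, Ψ (MvPowerSeries.X i) = a i := fun i => CohenLib.psHom_X J (algebraMap R A) a haJ i
  let Ψbar : (P ⧸ I) →ₐ[R] A := Ideal.Quotient.liftₐ I Ψ fun x hx => by
    have hle : I ≤ RingHom.ker Ψ := Ideal.span_le.2 fun y ⟨i, hy⟩ => by
      subst hy
      show Ψ (f i) = 0
      simp only [f, map_add, map_pow, hΨX, hΨ, hφg]
    exact hle hx
  let π : MvPolynomial (Fin r) R →ₐ[R] P ⧸ I :=
    (Ideal.Quotient.mkₐ R I).comp (MvPolynomial.coeToMvPowerSeries.algHom R)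
  have hπ : ∀ p, π p = Ideal.Quotient.mk I ↑p := fun p => by
    show Ideal.Quotient.mk I (MvPolynomial.coeToMvPowerSeries.algHom R p) = _
    rw [MvPolynomial.coeToMvPowerSeries.algHom_apply]
    simp
  let T : ι → P ⧸ I := fun j => π (MvPolynomial.monomial (dd j) 1)
  let mQ : Ideal (P ⧸ I) := m.map (algebraMap R (P ⧸ I))
  have hmQ : ∀ y, y ∈ (m • ⊤ : Submodule R (P ⧸ I)) ↔ y ∈ mQ := fun y => by
    rw [Ideal.smul_top_eq_map, Submodule.restrictScalars_mem]
  have hXq : ∀ i, π (MvPolynomial.X i ^ q i) ∈ mQ := fun i => by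
    have h1 : π (g i) ∈ mQ := by
      rw [← hmQ, (g i).as_sum, map_sum]
      refine Submodule.sum_mem _ fun d _ => ?_
      rw [show MvPolynomial.monomial d ((g i).coeff d) = (g i).coeff d • MvPolynomial.monomial d 1 by
        rw [MvPolynomial.smul_monomial, smul_eq_mul, mul_one], map_smul]
      exact Submodule.smul_mem_smul (hgc i d) Submodule.mem_top
    have h2 : π (MvPolynomial.X i ^ q i) = - π (g i) := by
      rw [eq_neg_iff_add_eq_zero, hπ, hπ, ← map_add]
      refine Ideal.Quotient.eq_zero_iff_mem.2 (Ideal.subset_span ⟨i, ?_⟩)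
      simp [f]
    rw [h2]; exact neg_mem h1
  let K : Ideal P := Ideal.span (Set.range fun i => (MvPowerSeries.X i : P) ^ q i)
  have hK : ∀ y ∈ K, Ideal.Quotient.mk I y ∈ mQ := fun y hy => by
    have hle : K ≤ mQ.comap (Ideal.Quotient.mk I) := Ideal.span_le.2 fun z ⟨i, hz⟩ => by
      subst hz
      show Ideal.Quotient.mk I _ ∈ mQ
      have := hXq i
      rw [hπ] at this
      simpa using this
    exact hle hy
  obtain ⟨N, hN⟩ : ∃ N, CohenLib.varsIdeal R r ^ N ≤ K :=
    Ideal.exists_pow_le_of_le_radical_of_fg (Ideal.span_le.2 fun y ⟨i, hy⟩ => by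
      subst hy; exact ⟨q i, Ideal.subset_span ⟨i, rfl⟩⟩) (IsNoetherian.noetherian _)
  have hgenQ : (⊤ : Submodule R (P ⧸ I)) ≤ Submodule.span R (Set.range T) ⊔ m • ⊤ := fun y _ => by
    obtain ⟨F, rfl⟩ := Ideal.Quotient.mk_surjective y
    obtain ⟨p, hp⟩ := CohenLib.exists_polynomial_sub_mem N F
    rw [hcoe] at hp
    rw [show Ideal.Quotient.mk I F = π p + Ideal.Quotient.mk I (F - ↑p) by rw [hπ, ← map_add, add_sub_cancel]]
    refine add_mem ?_ (Submodule.mem_sup_right ((hmQ _).2 (hK _ (hN hp))))
    rw [p.as_sum, map_sum]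
    refine Submodule.sum_mem _ fun d _ => ?_
    rw [show MvPolynomial.monomial d (p.coeff d) = p.coeff d • MvPolynomial.monomial d 1 by
      rw [MvPolynomial.smul_monomial, smul_eq_mul, mul_one], map_smul]
    refine Submodule.smul_mem _ _ ?_
    by_cases hd : ∀ i, d i < q i
    · refine Submodule.mem_sup_left (Submodule.subset_span ⟨fun i => ⟨d i, hd i⟩, ?_⟩)
      show π (MvPolynomial.monomial (dd _) 1) = _
      congr
      ext i; rfl
    · push Not at hd
      obtain ⟨i, hi⟩ := hd
      refine Submodule.mem_sup_right ((hmQ _).2 ?_)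
      rw [show MvPolynomial.monomial d (1 : R) =
        MvPolynomial.X i ^ q i * MvPolynomial.monomial (d - Finsupp.single i (q i)) 1 by
          rw [MvPolynomial.X_pow_eq_monomial, MvPolynomial.monomial_mul, one_mul,
            add_tsub_cancel_of_le (Finsupp.single_le_iff.2 hi)], map_mul]
      exact Ideal.mul_mem_right _ _ (hXq i)
  haveI : IsHausdorff m (P ⧸ I) := by
    haveI := CohenLib.isAdicComplete_sup_varsIdeal (n := r) R m
    have hjac : m.map (algebraMap R P) ≤ (⊥ : Ideal P).jacobson := by
      refine le_trans ?_ (IsAdicComplete.le_jacobson_bot (m.map MvPowerSeries.C ⊔ CohenLib.varsIdeal R r))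
      rw [show algebraMap R P = MvPowerSeries.C from RingHom.ext hC]
      exact le_sup_left
    exact (IsHausdorff.map_algebraMap_iff (I := m) (S := P) (M := P ⧸ I)).1
      (IsHausdorff.of_le_jacobson _ (P ⧸ I) hjac)
  have hspan := (CompleteLib.approx_filtration_eq (I := m) T (fun n => (m ^ n • ⊤ : Submodule R (P ⧸ I)))
    (fun i j hij => CompleteLib.pow_smul_top_anti hij) (fun z hz => CompleteLib.eq_zero_of_forall_mem hz)
    (fun n => le_rfl) (fun n => by
      refine (Submodule.smul_mono le_rfl hgenQ).trans ?_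
      rw [Submodule.smul_sup, ← Submodule.mul_smul, ← pow_succ])
    (by rw [pow_zero, Ideal.one_eq_top, Submodule.top_smul])).1
  let LQ : (ι → R) →ₗ[R] P ⧸ I := Fintype.linearCombination R T
  let L : (ι → R) →ₗ[R] A := Ψbar.toLinearMap ∘ₗ LQ
  have hLQ : Function.Surjective LQ := LinearMap.range_eq_top.1 (by
    rw [Fintype.range_linearCombination]; exact hspan)
  have hT : ∀ j, Ψbar (T j) = b j := fun j => by
    show Ψbar (π _) = _
    rw [hπ]
    exact hΨ _
  have hL : Function.Surjective L := LinearMap.range_eq_top.1 (eq_top_iff.2 (by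
    rw [← hgen, Submodule.span_le]
    rintro _ ⟨j, rfl⟩
    refine ⟨Pi.single j 1, ?_⟩
    show Ψbar (LQ (Pi.single j 1)) = _
    rw [Fintype.linearCombination_apply_single, one_smul, hT]))
  let e : A ≃ₗ[R] (ι → R) := LinearEquiv.ofFinrankEq A (ι → R) (by
    rw [hrank, Module.finrank_fintype_fun_eq_card, Fintype.card_pi]; simp)
  have hLe : Function.Injective (L ∘ₗ e.toLinearMap) :=
    OrzechProperty.injective_of_surjective_endomorphism _ (hL.comp e.surjective)
  have hinj : Function.Injective Ψbar := fun x y h => by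
    obtain ⟨x', rfl⟩ := hLQ x
    obtain ⟨y', rfl⟩ := hLQ y
    obtain ⟨x'', rfl⟩ := e.surjective x'
    obtain ⟨y'', rfl⟩ := e.surjective y'
    rw [show x'' = y'' from hLe h]
  exact ⟨(AlgEquiv.ofBijective Ψbar ⟨hinj, fun z => by
    obtain ⟨w, rfl⟩ := hL z
    exact ⟨LQ w, rfl⟩⟩).symm⟩

end ConnPresLib
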